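import Mathlib.RingTheory.MvPolynomial.Homogeneous
import Mathlib.RingTheory.Derivation.Basic
import Mathlib.Algebra.CharP.Two
import Mathlib.Algebra.CharP.Frobenius
import Mathlib.RingTheory.GradedAlgebra.Basic
import Mathlib.Tactic

/-!
# The graded rings of the regular del Pezzo surfaces with irregularity one (characteristic two)

`K` is a field of characteristic two, `T = K[y_0, y_1, y_2]`, the base field acts on subrings of `T` through squares,
`x_i = y_i ^ 2`.  For `a : Fin 4 → K`:

* `m a 0 = y_1`, `m a 1 = a_1 y_0 + y_2`, `m a 2 = a_2 y_0 + a_3 y_1` (square roots of the linear forms `l_i`);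
* `g a 0 = x_1 m_2 + x_2 m_1` etc., `w a = x_0 m_1 m_2 + x_1 m_0 m_2 + x_2 m_0 m_1`, `V a i = y_0 m_i + a_0 x_i`;
* `R₁ a`: the subring generated by all squares and `y_0, g_0, g_1, g_2, w`; `R₂ a`: generated by `R₁ a` and `V_0, V_1, V_2`;
* `Sand R` : the subring `R` of `T` contains all squares and is stable under taking homogeneous components;
* `fr R : T →+* R`, `f ↦ f ^ 2`; `K` acts on `R` through `fr R ∘ C`;
* `gr R n : Submodule K R` : the homogeneous elements of degree `n`; `GradedAlgebra (gr R)`.
-/

set_option autoImplicit false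
universe u

open MvPolynomial

namespace K688.MadDefs

variable {K : Type u} [Field K]

/-- The polynomial ring `K[y_0, y_1, y_2]`. -/
abbrev T (K : Type u) [Field K] : Type u := MvPolynomial (Fin 3) K

/-- The square roots `m_i` of the linear forms `l_i`. -/
noncomputable def m (a : Fin 4 → K) : Fin 3 → T K :=
  ![X 1, C (a 1) * X 0 + X 2, C (a 2) * X 0 + C (a 3) * X 1]

@[simp] lemma m_zero (a : Fin 4 → K) : m a 0 = X 1 := rfl
@[simp] lemma m_one (a : Fin 4 → K) : m a 1 = C (a 1) * X 0 + X 2 := rfl
@[simp] lemma m_two (a : Fin 4 → K) : m a 2 = C (a 2) * X 0 + C (a 3) * X 1 := rfl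

/-- The cubic forms `g_k = x_i m_j + x_j m_i`. -/
noncomputable def g (a : Fin 4 → K) : Fin 3 → T K :=
  ![X 1 ^ 2 * m a 2 + X 2 ^ 2 * m a 1, X 0 ^ 2 * m a 2 + X 2 ^ 2 * m a 0, X 0 ^ 2 * m a 1 + X 1 ^ 2 * m a 0]

lemma g_zero (a : Fin 4 → K) : g a 0 = X 1 ^ 2 * m a 2 + X 2 ^ 2 * m a 1 := rfl
lemma g_one (a : Fin 4 → K) : g a 1 = X 0 ^ 2 * m a 2 + X 2 ^ 2 * m a 0 := rfl
lemma g_two (a : Fin 4 → K) : g a 2 = X 0 ^ 2 * m a 1 + X 1 ^ 2 * m a 0 := rfl

/-- The quartic form `w`. -/
noncomputable def w (a : Fin 4 → K) : T K :=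
  X 0 ^ 2 * (m a 1 * m a 2) + X 1 ^ 2 * (m a 0 * m a 2) + X 2 ^ 2 * (m a 0 * m a 1)

/-- The quadratic forms `V_i = y_0 m_i + a_0 x_i`. -/
noncomputable def V (a : Fin 4 → K) (i : Fin 3) : T K := X 0 * m a i + C (a 0) * X i ^ 2

/-- The first graded ring. -/
noncomputable def R₁ (a : Fin 4 → K) : Subring (T K) :=
  Subring.closure (Set.range (fun f : T K => f ^ 2) ∪ {X 0, g a 0, g a 1, g a 2, w a})

/-- The second graded ring. -/
noncomputable def R₂ (a : Fin 4 → K) : Subring (T K) :=
  Subring.closure ((R₁ a : Set (T K)) ∪ Set.range (V a))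

/-- Subrings of `T` containing all squares and stable under homogeneous components. -/
class Sand (R : Subring (T K)) : Prop where
  sq_mem : ∀ f : T K, f ^ 2 ∈ R
  comp_mem : ∀ f ∈ R, ∀ n : ℕ, homogeneousComponent n f ∈ R

/-! ### Homogeneity -/

lemma isHomogeneous_m (a : Fin 4 → K) (i : Fin 3) : (m a i).IsHomogeneous 1 := by
  fin_cases i
  · exact isHomogeneous_X _ _
  · exact (isHomogeneous_C_mul_X _ _).add (isHomogeneous_X _ _)
  · exact (isHomogeneous_C_mul_X _ _).add (isHomogeneous_C_mul_X _ _)

lemma isHomogeneous_X_sq (i : Fin 3) : (X i ^ 2 : T K).IsHomogeneous 2 := isHomogeneous_X_pow i 2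

lemma isHomogeneous_g (a : Fin 4 → K) (i : Fin 3) : (g a i).IsHomogeneous 3 := by
  have h : ∀ i j : Fin 3, (X i ^ 2 * m a j : T K).IsHomogeneous 3 := fun i j =>
    (isHomogeneous_X_sq i).mul (isHomogeneous_m a j)
  fin_cases i
  · exact (h 1 2).add (h 2 1)
  · exact (h 0 2).add (h 2 0)
  · exact (h 0 1).add (h 1 0)

lemma isHomogeneous_w (a : Fin 4 → K) : (w a).IsHomogeneous 4 := by
  have h : ∀ i j k : Fin 3, (X i ^ 2 * (m a j * m a k) : T K).IsHomogeneous 4 := fun i j k =>
    (isHomogeneous_X_sq i).mul ((isHomogeneous_m a j).mul (isHomogeneous_m a k))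
  exact ((h _ _ _).add (h _ _ _)).add (h _ _ _)

lemma isHomogeneous_V (a : Fin 4 → K) (i : Fin 3) : (V a i).IsHomogeneous 2 :=
  ((isHomogeneous_X _ _).mul (isHomogeneous_m a i)).add ((isHomogeneous_X_sq i).C_mul _)

/-- If all products of components of `x` and `y` lie in `R`, so do the components of `x y`. -/
lemma comp_mul_mem (R : Subring (T K)) {x y : T K} (hx : ∀ n, homogeneousComponent n x ∈ R)
    (hy : ∀ n, homogeneousComponent n y ∈ R) (n : ℕ) : homogeneousComponent n (x * y) ∈ R := by
  rw [← sum_homogeneousComponent x, ← sum_homogeneousComponent y, Finset.sum_mul, map_sum]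
  refine sum_mem fun i _ => ?_
  rw [Finset.mul_sum, map_sum]
  refine sum_mem fun j _ => ?_
  rw [homogeneousComponent_of_mem
    (((homogeneousComponent_isHomogeneous i x).mul (homogeneousComponent_isHomogeneous j y)))]
  split_ifs
  · exact mul_mem (hx _) (hy _)
  · exact zero_mem _

/-- A subring generated by elements whose components lie in it is stable under homogeneous components. -/
lemma comp_mem_closure (G : Set (T K)) (hG : ∀ f ∈ G, ∀ n, homogeneousComponent n f ∈ Subring.closure G)
    (f : T K) (hf : f ∈ Subring.closure G) (n : ℕ) : homogeneousComponent n f ∈ Subring.closure G := by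
  induction hf using Subring.closure_induction generalizing n with
  | mem x hx => exact hG x hx n
  | zero => rw [map_zero]; exact zero_mem _
  | one =>
    rw [homogeneousComponent_of_mem (isHomogeneous_one (Fin 3) K)]
    split_ifs
    · exact one_mem _
    · exact zero_mem _
  | add x y _ _ hx hy => rw [map_add]; exact add_mem (hx n) (hy n)
  | neg x _ hx => rw [map_neg]; exact neg_mem (hx n)
  | mul x y _ _ hx hy => exact comp_mul_mem _ hx hy n

/-- The components of a homogeneous element of `R` lie in `R`. -/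
lemma comp_mem_of_isHomogeneous (R : Subring (T K)) {f : T K} {d : ℕ} (hf : f.IsHomogeneous d) (hfR : f ∈ R)
    (n : ℕ) : homogeneousComponent n f ∈ R := by
  rw [homogeneousComponent_of_mem hf]
  split_ifs
  · exact hfR
  · exact zero_mem _

section CharTwo

variable [CharP K 2]

instance : CharP (T K) 2 := inferInstance

/-- The components of a square are squares. -/
lemma comp_sq_mem (R : Subring (T K)) (h : ∀ f : T K, f ^ 2 ∈ R) (f : T K) (n : ℕ) :
    homogeneousComponent n (f ^ 2) ∈ R := by
  rw [← sum_homogeneousComponent f, CharTwo.sum_sq, map_sum]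
  refine sum_mem fun i _ => ?_
  exact comp_mem_of_isHomogeneous R ((homogeneousComponent_isHomogeneous i f).pow 2) (h _) n

omit [CharP K 2] in
lemma sq_mem_R₁ (a : Fin 4 → K) (f : T K) : f ^ 2 ∈ R₁ a :=
  Subring.subset_closure (Or.inl ⟨f, rfl⟩)

omit [CharP K 2] in
lemma s_mem_R₁ (a : Fin 4 → K) : (X 0 : T K) ∈ R₁ a :=
  Subring.subset_closure (Or.inr (by simp))

omit [CharP K 2] in
lemma g_mem_R₁ (a : Fin 4 → K) (i : Fin 3) : g a i ∈ R₁ a := by
  refine Subring.subset_closure (Or.inr ?_)
  fin_cases i <;> simp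

omit [CharP K 2] in
lemma w_mem_R₁ (a : Fin 4 → K) : w a ∈ R₁ a :=
  Subring.subset_closure (Or.inr (by simp))

omit [CharP K 2] in
lemma R₁_le_R₂ (a : Fin 4 → K) : R₁ a ≤ R₂ a := fun _ hx => Subring.subset_closure (Or.inl hx)

omit [CharP K 2] in
lemma V_mem_R₂ (a : Fin 4 → K) (i : Fin 3) : V a i ∈ R₂ a := Subring.subset_closure (Or.inr ⟨i, rfl⟩)

instance sand_R₁ (a : Fin 4 → K) : Sand (R₁ a) where
  sq_mem := sq_mem_R₁ a
  comp_mem := by
    refine comp_mem_closure _ ?_
    rintro f (⟨h, rfl⟩ | hf) n
    · exact comp_sq_mem (R₁ a) (sq_mem_R₁ a) h n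
    · have key : ∀ d : ℕ, f.IsHomogeneous d → homogeneousComponent n f ∈ R₁ a := fun d hd =>
        comp_mem_of_isHomogeneous (R₁ a) hd (Subring.subset_closure (Or.inr hf)) n
      simp only [Set.mem_insert_iff, Set.mem_singleton_iff] at hf
      rcases hf with h | h | h | h | h
      · exact key 1 (h ▸ isHomogeneous_X K 0)
      · exact key 3 (h ▸ isHomogeneous_g a 0)
      · exact key 3 (h ▸ isHomogeneous_g a 1)
      · exact key 3 (h ▸ isHomogeneous_g a 2)
      · exact key 4 (h ▸ isHomogeneous_w a)

instance sand_R₂ (a : Fin 4 → K) : Sand (R₂ a) where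
  sq_mem f := R₁_le_R₂ a (sq_mem_R₁ a f)
  comp_mem := by
    refine comp_mem_closure _ ?_
    rintro f (hf | ⟨i, rfl⟩) n
    · exact R₁_le_R₂ a (Sand.comp_mem f hf n)
    · exact comp_mem_of_isHomogeneous (R₂ a) (isHomogeneous_V a i) (V_mem_R₂ a i) n

/-! ### The Frobenius structure and the grading -/

variable (R : Subring (T K)) [Sand R]

/-- The Frobenius `T → R`, `f ↦ f ^ 2`. -/
noncomputable def fr : T K →+* R := (frobenius (T K) 2).codRestrict R (fun f => Sand.sq_mem f)

@[simp] lemma coe_fr (f : T K) : ((fr R f : R) : T K) = f ^ 2 := rfl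

/-- The base field acts through squares. -/
noncomputable instance instAlgebra : Algebra K R := ((fr R).comp C).toAlgebra

lemma coe_algebraMap (c : K) : ((algebraMap K R c : R) : T K) = C c ^ 2 := rfl

lemma coe_smul (c : K) (r : R) : ((c • r : R) : T K) = C c ^ 2 * (r : T K) := by
  rw [Algebra.smul_def]; rfl

/-- The homogeneous elements of degree `n` of `R`. -/
noncomputable def gr (n : ℕ) : Submodule K R where
  carrier := {r | (r : T K).IsHomogeneous n}
  add_mem' := fun {x y} hx hy => by
    change (((x + y : R)) : T K).IsHomogeneous n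
    rw [Subring.coe_add]
    exact IsHomogeneous.add hx hy
  zero_mem' := isHomogeneous_zero _ _ _
  smul_mem' := fun c x hx => by
    change ((c • x : R) : T K).IsHomogeneous n
    rw [coe_smul]
    have h0 : (C c ^ 2 : T K).IsHomogeneous 0 := by
      have := (isHomogeneous_C (σ := Fin 3) c).pow 2
      simpa using this
    simpa using h0.mul hx

variable {R} in
@[simp] lemma mem_gr {n : ℕ} {r : R} : r ∈ gr R n ↔ (r : T K).IsHomogeneous n := Iff.rfl

/-- The homogeneous component in `R`. -/
noncomputable def comp (n : ℕ) (r : R) : gr R n :=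
  ⟨⟨homogeneousComponent n (r : T K), Sand.comp_mem _ r.2 n⟩, homogeneousComponent_isHomogeneous n _⟩

@[simp] lemma coe_comp (n : ℕ) (r : R) : (((comp R n r : gr R n) : R) : T K) = homogeneousComponent n (r : T K) := rfl

open DirectSum in
/-- The decomposition of an element of `R` in its homogeneous components. -/
noncomputable def dec (r : R) : ⨁ n, gr R n :=
  DirectSum.mk _ (Finset.range ((r : T K).totalDegree + 1)) (fun n => comp R n r)

lemma dec_apply (r : R) (n : ℕ) : dec R r n = comp R n r := by
  by_cases hn : n ∈ Finset.range ((r : T K).totalDegree + 1)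
  · exact DirectSum.mk_apply_of_mem hn
  · rw [dec, DirectSum.mk_apply_of_notMem hn]
    apply Subtype.ext
    apply Subtype.ext
    rw [coe_comp, homogeneousComponent_eq_zero]
    · rfl
    · simpa [Nat.lt_succ_iff] using hn

lemma homogeneousComponent_coe (x : DirectSum ℕ fun n => gr R n) (n : ℕ) :
    homogeneousComponent n ((DirectSum.coeAddMonoidHom (gr R) x : R) : T K) = ((x n : R) : T K) := by
  induction x using DirectSum.induction_on with
  | zero => simp
  | of i x =>
    rw [DirectSum.coeAddMonoidHom_of, homogeneousComponent_of_mem (m := n) (n := i) (x.2 : ((x : R) : T K).IsHomogeneous i)]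
    split_ifs with h
    · subst h; rw [DirectSum.of_eq_same]
    · rw [DirectSum.of_eq_of_ne _ _ _ h]; rfl
  | add x y hx hy =>
    rw [map_add, Subring.coe_add, map_add, hx, hy, DirectSum.add_apply]
    rfl

noncomputable instance instGradedAlgebra : GradedAlgebra (gr R) where
  one_mem := isHomogeneous_one _ _
  mul_mem := fun {i j x y} hx hy => by
    change ((x * y : R) : T K).IsHomogeneous (i + j)
    rw [Subring.coe_mul]
    exact IsHomogeneous.mul hx hy
  decompose' := dec R
  left_inv := fun r => by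
    apply Subtype.ext
    have h1 : DirectSum.coeAddMonoidHom (gr R) (dec R r) =
        ∑ i ∈ Finset.range ((r : T K).totalDegree + 1), ((comp R i r : gr R i) : R) := by
      classical
      rw [DirectSum.coeAddMonoidHom_eq_dfinsuppSum, DFinsupp.sum]
      refine (Finset.sum_subset ?_ ?_).trans (Finset.sum_congr rfl fun i _ => by rw [dec_apply])
      · intro i hi
        by_contra h
        rw [DFinsupp.mem_support_iff] at hi
        exact hi (by rw [dec, DirectSum.mk_apply_of_notMem h])
      · intro i _ hi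
        rw [DFinsupp.notMem_support_iff] at hi
        rw [hi]; rfl
    rw [h1, AddSubmonoidClass.coe_finsetSum]
    exact sum_homogeneousComponent (r : T K)
  right_inv := fun x => by
    refine DFinsupp.ext fun n => ?_
    refine (dec_apply R _ n).trans ?_
    apply Subtype.ext
    apply Subtype.ext
    rw [coe_comp, homogeneousComponent_coe]

/-- `fr` maps degree `n` to degree `2 n`. -/
lemma fr_mem {n : ℕ} {f : T K} (hf : f.IsHomogeneous n) : fr R f ∈ gr R (2 * n) := by
  rw [mem_gr, coe_fr, mul_comm]
  exact hf.pow 2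

/-- The square of a homogeneous element of degree `n` is the image of a homogeneous element of degree `n`. -/
lemma fr_coe (r : R) : fr R (r : T K) = r ^ 2 := rfl

end CharTwo

end K688.MadDefs
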